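import Cfsg.Agent.H252.LT.Fams
import Cfsg.Agent.H252.LT.Tall

/-!
# S2927: the assembly

`result_of hcl hfib A B` : the claim of S2927, from the classification, the reduction `exists_fib`, the rows for one
component (`Fams DeadL`) and the rows for at least two components (`Fams No2`).
-/

set_option autoImplicit false

universe u

open Subgroup Cfsg
open Cfsg.Agent.H229
open Cfsg.Agent.H226.Tall (Tall One No1 No2 Fib RowOne RowTwo Both NotCP)

namespace Cfsg.Agent.H252.LT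

/-! ### monotonicity -/

theorem DeadL.mono {R R' : (K : Type u) → [Group K] → Prop} (h : DeadL.{u} R')
    (hR : ∀ (K : Type u) [Group K], R K → R' K) : DeadL.{u} R :=
  fun c K h1 h2 h3 h4 h5 => h c K h1 h2 h3 h4 (hR _ h5)

theorem DeadL.mono' {R R' : (K : Type u) → [Group K] → Prop} (h : DeadL.{u} R')
    (hR : ∀ (K : Type u) [Group K] [Finite K] [IsSimpleGroup K], ¬ IsMulCommutative K → R K → R' K) : DeadL.{u} R :=
  fun c K h1 h2 h3 h4 h5 => by
    have := h2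
    exact h c K h1 h2 h3 h4 (hR _ h3 h5)

theorem No2.mono {R R' : (K : Type u) → [Group K] → Prop} (h : No2.{u} R')
    (hR : ∀ (K : Type u) [Group K] [Finite K] [IsSimpleGroup K], R K → R' K) : No2.{u} R :=
  fun f h5 => h f (hR _ h5)

/-- the reduction to simple groups -/
def ExistsFib : Prop :=
  ∀ {G : Type u} [Group G] [Finite G] {S : Sylow 2 G} {Q M Y : Subgroup G} {x : G}, Tall S Q M Y x →
    (∃ K : Subgroup G, One S Q M Y x K) ∨
      ∃ (K : Type u) (_ : Group K) (_ : Finite K) (_ : IsSimpleGroup K), (∃ a b : K, a * b ≠ b * a) ∧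
        ∃ (S₁ : Sylow 2 K) (P V : Subgroup (MulAut K)), Fib S₁ P V

/-- one component -/
theorem false_of_one (hcl : ∀ (L : Type u) [Group L] [Finite L] [IsSimpleGroup L], IsKnownSimple' L)
    (A : Fams.{u} DeadL.{u}) {G : Type u} [Group G] [Finite G] {S : Sylow 2 G} {Q M : Subgroup G}
    (c : Cx S Q M) (K : Subgroup G) (hK : K.Normal) (hs : IsSimpleGroup ↥K) (hna : ¬ IsMulCommutative ↥K)
    (hC : centralizer (K : Set G) = ⊥) : False :=
  (A.elim (K := ↥K) fun _ h hR => h c K hK hs hna hC hR).false (hcl ↥K) hna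

/-- at least two components -/
theorem false_of_fib (hcl : ∀ (L : Type u) [Group L] [Finite L] [IsSimpleGroup L], IsKnownSimple' L)
    (B : Fams.{u} No2.{u}) {K : Type u} [Group K] [Finite K] [IsSimpleGroup K] (hna : ∃ a b : K, a * b ≠ b * a)
    {S₁ : Sylow 2 K} {P V : Subgroup (MulAut K)} (f : Fib S₁ P V) : False := by
  refine (B.elim (K := K) fun _ h hR => h f hR).false (hcl K) ?_
  rintro ⟨⟨h⟩⟩
  obtain ⟨a, b, hab⟩ := hna
  exact hab (h a b)

theorem cx_false (hcl : ∀ (L : Type u) [Group L] [Finite L] [IsSimpleGroup L], IsKnownSimple' L)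
    (hf : ExistsFib.{u}) (A : Fams.{u} DeadL.{u}) (B : Fams.{u} No2.{u}) {G : Type u} [Group G] [Finite G]
    {S : Sylow 2 G} {Q M : Subgroup G} (c : Cx S Q M) : False := by
  obtain ⟨x, t⟩ := c.tall
  rcases hf t with ⟨K, o⟩ | ⟨K, i1, i2, i3, hna, S₁, P, V, f⟩
  · refine false_of_one hcl A c K o.nK o.simple ?_ o.cent
    rintro ⟨⟨h⟩⟩
    obtain ⟨a, b, hab⟩ := o.nonab
    exact hab (h a b)
  · exact false_of_fib hcl B hna f

/-- **S2927 from the pieces.** -/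
theorem result_of (hcl : ∀ (L : Type u) [Group L] [Finite L] [IsSimpleGroup L], IsKnownSimple' L)
    (hf : ExistsFib.{u}) (A : Fams.{u} DeadL.{u}) (B : Fams.{u} No2.{u})
    {G : Type u} [Group G] [Finite G] (S : Sylow 2 G) (hmax : ∃ M₁ M₂ : Subgroup G, M₁ ≠ M₂ ∧ Cfsg.IsMaximalTwoLocal M₁ ∧ Cfsg.IsMaximalTwoLocal M₂ ∧ (S : Subgroup G) ≤ M₁ ∧ (S : Subgroup G) ≤ M₂) (Q : Subgroup G) (hQS : Q ≤ (S : Subgroup G)) (hQ1 : ((Cfsg.pCore 2 ↥(Subgroup.normalizer (Q : Set G))).map (Subgroup.normalizer (Q : Set G)).subtype) = Q) (hQ2 : Subgroup.centralizer (Q : Set G) ≤ Q) (hQ3 : ∀ A : Subgroup G, A ≤ Q ⊓ Subgroup.centralizer (Q : Set G) → A ≠ ⊥ → Subgroup.normalizer (A : Set G) ≤ Subgroup.normalizer (Q : Set G)) (M : Subgroup G) (hSM : (S : Subgroup G) ≤ M) (hM : (((Cfsg.pCore 2 ↥M).map M.subtype) ≠ ⊥ ∧ Subgroup.centralizer (((Cfsg.pCore 2 ↥M).map M.subtype) : Set G) ≤ ((Cfsg.pCore 2 ↥M).map M.subtype))) (hbasic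 : ∀ L : Subgroup G, M ≤ L → ((((Cfsg.pCore 2 ↥L).map L.subtype) ≠ ⊥ ∧ Subgroup.centralizer (((Cfsg.pCore 2 ↥L).map L.subtype) : Set G) ≤ ((Cfsg.pCore 2 ↥L).map L.subtype)) ↔ (L ≤ (M ⊔ Subgroup.centralizer ((Cfsg.largestPReducedOf 2 M) : Set G)) ∧ ((Cfsg.pCore 2 ↥L).map L.subtype) ≠ ⊥ ∧ (M ⊔ Subgroup.centralizer ((Cfsg.largestPReducedOf 2 M) : Set G)) ⊓ Subgroup.centralizer (((Cfsg.pCore 2 ↥L).map L.subtype) : Set G) ≤ ((Cfsg.pCore 2 ↥L).map L.subtype)))) (hY : (Cfsg.largestPReducedOf 2 M) = Cfsg.largestPReducedOf 2 (M ⊔ Subgroup.centralizer ((Cfsg.largestPReducedOf 2 M) : Set G))) [hOn : (Cfsg.pCore 2 ↥M).Normal] (hfrat : ((M ⊓ Subgroup.centralizer ((Cfsg.largestPReducedOf 2 M) : Set G)).subgroupOf M).map (QuotientGroup.mk' (Cfsg.pCore 2 ↥M)) ≤ frattini (↥M ⧸ Cfsg.pCore 2 ↥M)) (hasym : ¬ Cfsg.IsSymmetricIn (Cfsg.largestPReducedOf 2 M)) (htall : Cfsg.IsTall 2 (Cfsg.largestPReducedOf 2 M)) : Cfsg.IsCharPTall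 2 (Cfsg.largestPReducedOf 2 M) := by
  by_contra hnot
  exact cx_false hcl hf A B
    (H258.TF.exists_cx hmax hQS hQ1 hQ2 hQ3 hSM hM hbasic hY hfrat hasym htall hnot)

end Cfsg.Agent.H252.LT
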