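import Cfsg.Agent.H17.LT.Defs
import Cfsg.Agent.H731.SK.Rows

/-!
# S2927: handlers for the families, the assembly
-/

set_option autoImplicit false

universe u

open Subgroup Cfsg Cfsg.Agent.H731.SK

namespace Cfsg.Agent.H252.LT

/-- handlers for all families of nonabelian simple groups -/
structure Elim (K : Type u) [Group K] : Prop where
  alt : IsAlternating K → False
  odd : ∀ p : ℕ, p.Prime → p ≠ 2 → IsLieTypeChar p K → ¬ PslEven K → ¬ IsAlternating K → False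
  psl : PslEven K → False
  psp : PspEven K → False
  psu : PsuEven K → False
  plus : PlusEven K → False
  minus : MinusEven K → False
  g2 : GTwoEven K → False
  f4 : FFourEven K → False
  e6 : ESixEven K → False
  e7 : ESevenEven K → False
  e8 : EEightEven K → False
  twE6 : TwESixEven K → False
  twD4 : TwDFourEven K → False
  sz : Lie.IsoSuzuki K → False
  twF4 : Lie.Iso2F4 K → False
  tits : Lie.IsoTits K → False
  m11 : Spor.IsoM11 K → False
  m12 : Spor.IsoM12 K → False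
  m22 : Spor.IsoM22 K → False
  m23 : Spor.IsoM23 K → False
  m24 : Spor.IsoM24 K → False
  j1 : Spor.IsoJ1 K → False
  j2 : Spor.IsoJ2 K → False
  j3 : Spor.IsoJ3 K → False
  j4 : Spor.IsoJ4 K → False
  co1 : Spor.IsoCo1 K → False
  co2 : Spor.IsoCo2 K → False
  co3 : Spor.IsoCo3 K → False
  mcl : Spor.IsoMcL K → False
  hs : Spor.IsoHS K → False
  suz : Spor.IsoSuz K → False
  he : Spor.IsoHe K → False
  ru : Spor.IsoRu K → False
  on : Spor.IsoON K → False
  ly : Spor.IsoLy K → False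
  fi22 : Spor.IsoFi22 K → False
  fi23 : Spor.IsoFi23 K → False
  fi24 : Spor.IsoFi24' K → False
  hn : Spor.IsoHN K → False
  th : Spor.IsoTh K → False
  b : Spor.IsoB K → False
  m : Spor.IsoM K → False

variable {K : Type u} [Group K]

theorem Elim.odd_of (A : Elim K) {p : ℕ} (hp : p.Prime) (h2 : p ≠ 2) (hK : IsLieTypeChar p K) : False := by
  by_cases hE : PslEven K
  · exact A.psl hE
  · by_cases hA : IsAlternating K
    · exact A.alt hA
    · exact A.odd p hp h2 hK hE hA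

/-- exceptional groups -/
theorem Elim.exc (A : Elim K) (hK : IsExceptionalLieType K) : False := by
  rcases hK with hK | hK | hK | hK | hK | hK | hK | hK | hK | hK | hK
  · obtain ⟨F, iF, iT, h3, e⟩ := hK
    obtain ⟨p, hp, hc⟩ := exists_char F
    by_cases h2 : p = 2
    · subst h2
      refine A.g2 ⟨F, iF, iT, hc, ?_, e⟩
      obtain ⟨r, hr⟩ := even_card F
      omega
    · exact A.odd_of hp h2 (of_exc ⟨F, iF, iT, hc, Or.inl ⟨h3, e⟩⟩)
  · obtain ⟨F, iF, iT, e⟩ := hK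
    obtain ⟨p, hp, hc⟩ := exists_char F
    by_cases h2 : p = 2
    · subst h2
      exact A.f4 ⟨F, iF, iT, hc, e⟩
    · exact A.odd_of hp h2 (of_exc ⟨F, iF, iT, hc, Or.inr (Or.inl e)⟩)
  · obtain ⟨F, iF, iT, e⟩ := hK
    obtain ⟨p, hp, hc⟩ := exists_char F
    by_cases h2 : p = 2
    · subst h2
      exact A.e6 ⟨F, iF, iT, hc, e⟩
    · exact A.odd_of hp h2 (of_exc ⟨F, iF, iT, hc, Or.inr (Or.inr (Or.inl e))⟩)
  · obtain ⟨F, iF, iT, e⟩ := hK
    obtain ⟨p, hp, hc⟩ := exists_char F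
    by_cases h2 : p = 2
    · subst h2
      exact A.e7 ⟨F, iF, iT, hc, e⟩
    · exact A.odd_of hp h2 (of_exc ⟨F, iF, iT, hc, Or.inr (Or.inr (Or.inr (Or.inl e)))⟩)
  · obtain ⟨F, iF, iT, e⟩ := hK
    obtain ⟨p, hp, hc⟩ := exists_char F
    by_cases h2 : p = 2
    · subst h2
      exact A.e8 ⟨F, iF, iT, hc, e⟩
    · exact A.odd_of hp h2 (of_exc ⟨F, iF, iT, hc, Or.inr (Or.inr (Or.inr (Or.inr e)))⟩)
  · obtain ⟨F, iF, iT, q, hq, hF, e⟩ := hK
    obtain ⟨p, hp, hc⟩ := exists_char F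
    by_cases h2 : p = 2
    · subst h2
      exact A.twE6 ⟨F, iF, iT, hc, q, hq, hF, e⟩
    · exact A.odd_of hp h2 (of_tw ⟨F, iF, iT, hc, q, hq, Or.inl ⟨hF, e⟩⟩)
  · obtain ⟨F, iF, iT, q, hq, hF, e⟩ := hK
    obtain ⟨p, hp, hc⟩ := exists_char F
    by_cases h2 : p = 2
    · subst h2
      exact A.twD4 ⟨F, iF, iT, hc, q, hq, hF, e⟩
    · exact A.odd_of hp h2 (of_tw ⟨F, iF, iT, hc, q, hq, Or.inr ⟨hF, e⟩⟩)
  · exact A.sz hK
  · exact A.odd_of Nat.prime_three (by norm_num) (Or.inr (Or.inr (Or.inr (Or.inr (Or.inr (Or.inr (Or.inr (Or.inr (Or.inr (Or.inr ⟨rfl, hK⟩))))))))))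
  · exact A.twF4 hK
  · exact A.tits hK

/-- sporadic groups -/
theorem Elim.spor (A : Elim K) (hK : IsSporadicGroup K) : False := by
  rcases hK with hK | hK | hK | hK | hK | hK | hK | hK | hK | hK | hK | hK | hK | hK | hK | hK | hK | hK | hK | hK |
    hK | hK | hK | hK | hK | hK
  · exact A.m11 hK
  · exact A.m12 hK
  · exact A.m22 hK
  · exact A.m23 hK
  · exact A.m24 hK
  · exact A.j1 hK
  · exact A.j2 hK
  · exact A.j3 hK
  · exact A.j4 hK
  · exact A.co1 hK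
  · exact A.co2 hK
  · exact A.co3 hK
  · exact A.mcl hK
  · exact A.hs hK
  · exact A.suz hK
  · exact A.he hK
  · exact A.ru hK
  · exact A.on hK
  · exact A.ly hK
  · exact A.fi22 hK
  · exact A.fi23 hK
  · exact A.fi24 hK
  · exact A.hn hK
  · exact A.th hK
  · exact A.b hK
  · exact A.m hK

/-- **The handlers imply `False`.** -/
theorem Elim.false (A : Elim K) (hk : IsKnownSimple' K) (hna : ¬ IsMulCommutative K) : False := by
  rcases hk with hK | hK | hK | hK | hK | hK | hK | hK | hK | hK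
  · have hp : Fact (Nat.card K).Prime := ⟨hK⟩
    have hc : IsCyclic K := isCyclic_of_prime_card rfl
    exact hna ⟨⟨fun a b => hc.commGroup.mul_comm a b⟩⟩
  · exact A.alt hK
  · obtain ⟨F, iF, iT, n, hn, h4, e⟩ := hK
    obtain ⟨p, hp, hc⟩ := exists_char F
    by_cases h2 : p = 2
    · subst h2
      exact A.psl ⟨F, iF, iT, hc, n, hn, h4, e⟩
    · exact A.odd_of hp h2 (Or.inl ⟨F, iF, iT, hc, n, hn, h4, e⟩)
  · obtain ⟨F, iF, iT, m, hm, h3, e⟩ := hK
    obtain ⟨p, hp, hc⟩ := exists_char F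
    by_cases h2 : p = 2
    · subst h2
      refine A.psp ⟨F, iF, iT, hc, m, hm, fun hm2 => ?_, e⟩
      have h5 := h3 hm2
      obtain ⟨r, hr⟩ := even_card F
      omega
    · exact A.odd_of hp h2 (Or.inr (Or.inl ⟨F, iF, iT, hc, m, hm, h3, e⟩))
  · obtain ⟨F, iF, iT, n, q, hF, hn, h3, e⟩ := hK
    obtain ⟨p, hp, hc⟩ := exists_char F
    by_cases h2 : p = 2
    · subst h2
      by_cases h4 : n = 4 ∧ q = 2
      · obtain ⟨rfl, rfl⟩ := h4
        obtain ⟨e⟩ := e
        have : Fact (Nat.Prime 3) := ⟨Nat.prime_three⟩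
        obtain ⟨k⟩ := Cfsg.Agent.S0822.result (F := F) (K := ZMod 3) (by rw [hF]; norm_num) (ZMod.card 3)
        exact A.odd_of Nat.prime_three (by norm_num) (Or.inr (Or.inl ⟨ZMod 3, inferInstance, inferInstance,
          inferInstance, 2, le_rfl, fun _ => by rw [ZMod.card], ⟨e.trans k⟩⟩))
      · refine A.psu ⟨F, iF, iT, hc, n, q, hF, ?_, hn, h3, h4, e⟩
        have h5 := even_card F
        rw [hF] at h5
        exact (Nat.even_pow.1 h5).1
    · exact A.odd_of hp h2 (Or.inr (Or.inr (Or.inl ⟨F, iF, iT, hc, n, q, hF, hn, h3, e⟩)))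
  · obtain ⟨F, iF, iT, m, hm, ho, e⟩ := hK
    obtain ⟨p, hp, hc⟩ := exists_char F
    exact A.odd_of hp (ne_two_of_odd hc ho) (Or.inr (Or.inr (Or.inr (Or.inl ⟨F, iF, iT, hc, m, hm, ho, e⟩))))
  · obtain ⟨F, iF, iT, m, hm, e⟩ := hK
    obtain ⟨p, hp, hc⟩ := exists_char F
    by_cases h2 : p = 2
    · subst h2
      exact A.plus ⟨F, iF, iT, hc, m, hm, e⟩
    · exact A.odd_of hp h2 (Or.inr (Or.inr (Or.inr (Or.inr (Or.inl ⟨F, iF, iT, hc, m, hm, e⟩)))))
  · obtain ⟨F, iF, iT, m, a, b, hm, hab, e⟩ := hK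
    obtain ⟨p, hp, hc⟩ := exists_char F
    by_cases h2 : p = 2
    · subst h2
      exact A.minus ⟨F, iF, iT, hc, m, a, b, hm, hab, e⟩
    · exact A.odd_of hp h2 (Or.inr (Or.inr (Or.inr (Or.inr (Or.inr (Or.inl ⟨F, iF, iT, hc, m, a, b, hm, hab, e⟩))))))
  · exact A.exc hK
  · exact A.spor hK

end Cfsg.Agent.H252.LT
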