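import Cfsg.Agent.H252.LT.Elim
import Cfsg.Agent.S0252
import Cfsg.Agent.S0253
import Cfsg.Agent.S0254
import Cfsg.Agent.S0255
import Cfsg.Agent.S0256

/-!
# S2927: the list of the families

`Fams D` : every family of nonabelian simple groups satisfies `D` (`D` = `DeadL` or `DeadR`).
`Fams.elim` : `Fams D` gives the handlers `Elim K`.
-/

set_option autoImplicit false

universe u

open Subgroup Cfsg Cfsg.Agent.H731.SK Matrix

namespace Cfsg.Agent.H252.LT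

/-- the families -/
structure Fams (D : ((K : Type u) → [Group K] → Prop) → Prop) : Prop where
  alt : ∀ n : ℕ, 6 ≤ n → n ≠ 8 → D fun K _ => Nonempty (K ≃* ↥(alternatingGroup (Fin n)))
  /- odd characteristic, classical -/
  psl2 : D fun K _ => ∃ (F : Type) (_ : Field F) (_ : Fintype F), Odd (Fintype.card F) ∧ 11 ≤ Fintype.card F ∧
    Nonempty (K ≃* ProjectiveSpecialLinearGroup (Fin 2) F)
  pslO : D fun K _ => ∃ (F : Type) (_ : Field F) (_ : Fintype F) (n : ℕ), Odd (Fintype.card F) ∧ 3 ≤ n ∧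
    ¬ ((n = 3 ∨ n = 4) ∧ Fintype.card F = 3) ∧ Nonempty (K ≃* ProjectiveSpecialLinearGroup (Fin n) F)
  l33 : D fun K _ => ∃ (F : Type) (_ : Field F) (_ : Fintype F), Fintype.card F = 3 ∧
    Nonempty (K ≃* ProjectiveSpecialLinearGroup (Fin 3) F)
  l43 : D fun K _ => ∃ (F : Type) (_ : Field F) (_ : Fintype F), Fintype.card F = 3 ∧
    Nonempty (K ≃* ProjectiveSpecialLinearGroup (Fin 4) F)
  pspO : D fun K _ => ∃ (F : Type) (_ : Field F) (_ : Fintype F) (m : ℕ), Odd (Fintype.card F) ∧ 2 ≤ m ∧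
    ¬ (m = 2 ∧ Fintype.card F = 3) ∧ Nonempty (K ≃* PSp m F)
  psp43 : D fun K _ => ∃ (F : Type) (_ : Field F) (_ : Fintype F), Fintype.card F = 3 ∧ Nonempty (K ≃* PSp 2 F)
  psuO : D fun K _ => ∃ (F : Type) (_ : Field F) (_ : Fintype F) (n q : ℕ), Fintype.card F = q ^ 2 ∧ Odd q ∧ 3 ≤ n ∧
    ¬ ((n = 3 ∨ n = 4) ∧ q = 3) ∧ Nonempty (K ≃* PSU n F q)
  u33 : D fun K _ => ∃ (F : Type) (_ : Field F) (_ : Fintype F), Fintype.card F = 9 ∧ Nonempty (K ≃* PSU 3 F 3)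
  u43 : D fun K _ => ∃ (F : Type) (_ : Field F) (_ : Fintype F), Fintype.card F = 9 ∧ Nonempty (K ≃* PSU 4 F 3)
  oodd : D fun K _ => ∃ (F : Type) (_ : Field F) (_ : Fintype F) (m : ℕ), Odd (Fintype.card F) ∧ 3 ≤ m ∧
    ¬ (m = 3 ∧ Fintype.card F = 3) ∧ Nonempty (K ≃* POmega F (quadFormOdd m F))
  o73 : D fun K _ => ∃ (F : Type) (_ : Field F) (_ : Fintype F), Fintype.card F = 3 ∧
    Nonempty (K ≃* POmega F (quadFormOdd 3 F))
  oplus : D fun K _ => ∃ (F : Type) (_ : Field F) (_ : Fintype F) (m : ℕ), Odd (Fintype.card F) ∧ 4 ≤ m ∧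
    ¬ (m = 4 ∧ Fintype.card F = 3) ∧ Nonempty (K ≃* POmega F (quadFormPlus m F))
  o8p3 : D fun K _ => ∃ (F : Type) (_ : Field F) (_ : Fintype F), Fintype.card F = 3 ∧
    Nonempty (K ≃* POmega F (quadFormPlus 4 F))
  ominus : D fun K _ => ∃ (F : Type) (_ : Field F) (_ : Fintype F) (m : ℕ) (a b : F), Odd (Fintype.card F) ∧ 4 ≤ m ∧
    ¬ (m = 4 ∧ Fintype.card F = 3) ∧ (∀ z₁ z₂ : F, z₁ ^ 2 + a * z₁ * z₂ + b * z₂ ^ 2 = 0 → z₁ = 0 ∧ z₂ = 0) ∧
    Nonempty (K ≃* POmega F (quadFormMinus (m - 1) F a b))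
  o8m3 : D fun K _ => ∃ (F : Type) (_ : Field F) (_ : Fintype F) (a b : F), Fintype.card F = 3 ∧
    (∀ z₁ z₂ : F, z₁ ^ 2 + a * z₁ * z₂ + b * z₂ ^ 2 = 0 → z₁ = 0 ∧ z₂ = 0) ∧
    Nonempty (K ≃* POmega F (quadFormMinus 3 F a b))
  /- odd characteristic, exceptional, `q > 3` -/
  exc : D fun K _ => ∃ (F : Type) (_ : Field F) (_ : Fintype F), Odd (Fintype.card F) ∧ 3 < Fintype.card F ∧
    (Nonempty (K ≃* Lie.chevG2.group F) ∨ Nonempty (K ≃* Lie.chevF4.group F) ∨ Nonempty (K ≃* Lie.chevE6.group F) ∨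
      Nonempty (K ≃* Lie.chevE7.group F) ∨ Nonempty (K ≃* Lie.chevE8.group F))
  exc3 : D fun K _ => ∃ (F : Type) (_ : Field F) (_ : Fintype F), Fintype.card F = 3 ∧
    (Nonempty (K ≃* Lie.chevF4.group F) ∨ Nonempty (K ≃* Lie.chevE6.group F) ∨
      Nonempty (K ≃* Lie.chevE7.group F) ∨ Nonempty (K ≃* Lie.chevE8.group F))
  g23 : D fun K _ => ∃ (F : Type) (_ : Field F) (_ : Fintype F), Fintype.card F = 3 ∧ Nonempty (K ≃* Lie.chevG2.group F)
  twO : D fun K _ => ∃ (F : Type) (_ : Field F) (_ : Fintype F) (q : ℕ), IsPrimePow q ∧ Odd q ∧ 3 < q ∧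
    ((Fintype.card F = q ^ 2 ∧ Nonempty (K ≃* Lie.twistedE6 F q)) ∨
      (Fintype.card F = q ^ 3 ∧ Nonempty (K ≃* Lie.twistedD4 F q)))
  twE63 : D fun K _ => ∃ (F : Type) (_ : Field F) (_ : Fintype F), Fintype.card F = 9 ∧
    Nonempty (K ≃* Lie.twistedE6 F 3)
  twD43 : D fun K _ => ∃ (F : Type) (_ : Field F) (_ : Fintype F), Fintype.card F = 27 ∧
    Nonempty (K ≃* Lie.twistedD4 F 3)
  ree : D fun K _ => Lie.IsoRee K
  /- characteristic two -/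
  psl : D fun K _ => PslEven K
  psp : D fun K _ => PspEven K
  psu : D fun K _ => PsuEven K
  plus : D fun K _ => PlusEven K
  minus : D fun K _ => MinusEven K
  g2 : D fun K _ => GTwoEven K
  f4 : D fun K _ => FFourEven K
  e6 : D fun K _ => ESixEven K
  e7 : D fun K _ => ESevenEven K
  e8 : D fun K _ => EEightEven K
  twE6 : D fun K _ => TwESixEven K
  twD4 : D fun K _ => TwDFourEven K
  sz : D fun K _ => Lie.IsoSuzuki K
  twF4 : D fun K _ => Lie.Iso2F4 K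
  tits : D fun K _ => Lie.IsoTits K
  m11 : D fun K _ => Spor.IsoM11 K
  m12 : D fun K _ => Spor.IsoM12 K
  m22 : D fun K _ => Spor.IsoM22 K
  m23 : D fun K _ => Spor.IsoM23 K
  m24 : D fun K _ => Spor.IsoM24 K
  j1 : D fun K _ => Spor.IsoJ1 K
  j2 : D fun K _ => Spor.IsoJ2 K
  j3 : D fun K _ => Spor.IsoJ3 K
  j4 : D fun K _ => Spor.IsoJ4 K
  co1 : D fun K _ => Spor.IsoCo1 K
  co2 : D fun K _ => Spor.IsoCo2 K
  co3 : D fun K _ => Spor.IsoCo3 K
  mcl : D fun K _ => Spor.IsoMcL K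
  hs : D fun K _ => Spor.IsoHS K
  suz : D fun K _ => Spor.IsoSuz K
  he : D fun K _ => Spor.IsoHe K
  ru : D fun K _ => Spor.IsoRu K
  on : D fun K _ => Spor.IsoON K
  ly : D fun K _ => Spor.IsoLy K
  fi22 : D fun K _ => Spor.IsoFi22 K
  fi23 : D fun K _ => Spor.IsoFi23 K
  fi24 : D fun K _ => Spor.IsoFi24' K
  hn : D fun K _ => Spor.IsoHN K
  th : D fun K _ => Spor.IsoTh K
  b : D fun K _ => Spor.IsoB K
  m : D fun K _ => Spor.IsoM K

theorem odd_card_of {F : Type} [Field F] [Fintype F] {p : ℕ} (hp : p.Prime) (hc : CharP F p) (h2 : p ≠ 2) :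
    Odd (Fintype.card F) := by
  have : Fact p.Prime := ⟨hp⟩
  obtain ⟨m, -, hm⟩ := FiniteField.card F p
  rw [hm]
  exact (hp.odd_of_ne_two h2).pow

theorem three_le_card {F : Type} [Field F] [Fintype F] (h : Odd (Fintype.card F)) : 3 ≤ Fintype.card F := by
  have h1 : 1 < Fintype.card F := Fintype.one_lt_card
  obtain ⟨r, hr⟩ := h
  omega

theorem odd_of_pow {F : Type} [Field F] [Fintype F] {q n : ℕ} (hn : n ≠ 0) (hF : Fintype.card F = q ^ n)
    (h : Odd (Fintype.card F)) : Odd q := by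
  by_contra h1
  rw [Nat.not_odd_iff_even] at h1
  rw [hF] at h
  exact (Nat.not_even_iff_odd.2 h) ((Nat.even_pow).2 ⟨h1, hn⟩)

theorem three_le_of_odd {q : ℕ} (h : Odd q) (h1 : q ≠ 1) : 3 ≤ q := by
  obtain ⟨r, hr⟩ := h
  omega

/-- odd characteristic -/
theorem Fams.odd {D : ((K : Type u) → [Group K] → Prop) → Prop} (A : Fams D) {K : Type u} [Group K]
    (hD : ∀ R : (K : Type u) → [Group K] → Prop, D R → R K → False) (p : ℕ) (hp : p.Prime) (h2 : p ≠ 2)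
    (hK : IsLieTypeChar p K) (hE : ¬ PslEven K) (hA : ¬ IsAlternating K) : False := by
  rcases hK with hK | hK | hK | hK | hK | hK | hK | hK | hK | hK | hK
  · obtain ⟨F, iF, iT, hc, n, hn, h4, ⟨e⟩⟩ := hK
    have ho := odd_card_of hp hc h2
    rcases hn.eq_or_lt with rfl | hn
    · have h4' := h4 rfl
      by_cases hc5 : Fintype.card F = 5
      · obtain ⟨f⟩ := S0253.result hc5
        exact hA ⟨5, le_rfl, ⟨e.trans f⟩⟩
      by_cases hc7 : Fintype.card F = 7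
      · have : Fact (Nat.Prime 2) := ⟨Nat.prime_two⟩
        obtain ⟨f⟩ := S0255.result (F := F) (K := ZMod 2) hc7 (ZMod.card 2)
        exact hE ⟨ZMod 2, inferInstance, inferInstance, inferInstance, 3, by norm_num, by norm_num, ⟨e.trans f⟩⟩
      by_cases hc9 : Fintype.card F = 9
      · obtain ⟨f⟩ := S0254.result hc9
        exact hA ⟨6, by norm_num, ⟨e.trans f⟩⟩
      refine hD _ A.psl2 ⟨F, iF, iT, ho, ?_, ⟨e⟩⟩
      obtain ⟨r, hr⟩ := ho
      omega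
    · by_cases h3 : Fintype.card F = 3
      · by_cases h33 : n = 3
        · subst h33
          exact hD _ A.l33 ⟨F, iF, iT, h3, ⟨e⟩⟩
        · by_cases h43 : n = 4
          · subst h43
            exact hD _ A.l43 ⟨F, iF, iT, h3, ⟨e⟩⟩
          · exact hD _ A.pslO ⟨F, iF, iT, n, ho, hn, fun h => by omega, ⟨e⟩⟩
      · exact hD _ A.pslO ⟨F, iF, iT, n, ho, hn, fun h => h3 h.2, ⟨e⟩⟩
  · obtain ⟨F, iF, iT, hc, m, hm, -, ⟨e⟩⟩ := hK
    have ho := odd_card_of hp hc h2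
    by_cases h : m = 2 ∧ Fintype.card F = 3
    · obtain ⟨rfl, h3⟩ := h
      exact hD _ A.psp43 ⟨F, iF, iT, h3, ⟨e⟩⟩
    · exact hD _ A.pspO ⟨F, iF, iT, m, ho, hm, h, ⟨e⟩⟩
  · obtain ⟨F, iF, iT, hc, n, q, hF, hn, h32, ⟨e⟩⟩ := hK
    have ho := odd_card_of hp hc h2
    have hq : Odd q := odd_of_pow two_ne_zero hF ho
    by_cases h : (n = 3 ∨ n = 4) ∧ q = 3
    · obtain ⟨h | h, rfl⟩ := h
      · subst h
        exact hD _ A.u33 ⟨F, iF, iT, hF, ⟨e⟩⟩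
      · subst h
        exact hD _ A.u43 ⟨F, iF, iT, hF, ⟨e⟩⟩
    · exact hD _ A.psuO ⟨F, iF, iT, n, q, hF, hq, hn, h, ⟨e⟩⟩
  · obtain ⟨F, iF, iT, hc, m, hm, ho, ⟨e⟩⟩ := hK
    by_cases h : m = 3 ∧ Fintype.card F = 3
    · obtain ⟨rfl, h3⟩ := h
      exact hD _ A.o73 ⟨F, iF, iT, h3, ⟨e⟩⟩
    · exact hD _ A.oodd ⟨F, iF, iT, m, ho, hm, h, ⟨e⟩⟩
  · obtain ⟨F, iF, iT, hc, m, hm, ⟨e⟩⟩ := hK
    have ho := odd_card_of hp hc h2
    by_cases h : m = 4 ∧ Fintype.card F = 3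
    · obtain ⟨rfl, h3⟩ := h
      exact hD _ A.o8p3 ⟨F, iF, iT, h3, ⟨e⟩⟩
    · exact hD _ A.oplus ⟨F, iF, iT, m, ho, hm, h, ⟨e⟩⟩
  · obtain ⟨F, iF, iT, hc, m, a, b, hm, hab, ⟨e⟩⟩ := hK
    have ho := odd_card_of hp hc h2
    by_cases h : m = 4 ∧ Fintype.card F = 3
    · obtain ⟨rfl, h3⟩ := h
      exact hD _ A.o8m3 ⟨F, iF, iT, a, b, h3, hab, ⟨e⟩⟩
    · exact hD _ A.ominus ⟨F, iF, iT, m, a, b, ho, hm, h, hab, ⟨e⟩⟩
  · obtain ⟨F, iF, iT, hc, hK⟩ := hK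
    have ho := odd_card_of hp hc h2
    by_cases h3 : Fintype.card F = 3
    · rcases hK with ⟨-, hK⟩ | hK
      · exact hD _ A.g23 ⟨F, iF, iT, h3, hK⟩
      · exact hD _ A.exc3 ⟨F, iF, iT, h3, hK⟩
    · have h4 : 3 < Fintype.card F := lt_of_le_of_ne (three_le_card ho) (Ne.symm h3)
      refine hD _ A.exc ⟨F, iF, iT, ho, h4, ?_⟩
      rcases hK with ⟨-, hK⟩ | hK
      · exact Or.inl hK
      · exact Or.inr hK
  · obtain ⟨F, iF, iT, hc, q, hq, hK⟩ := hK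
    have ho := odd_card_of hp hc h2
    have hqo : Odd q := by
      rcases hK with ⟨h, -⟩ | ⟨h, -⟩
      · exact odd_of_pow two_ne_zero h ho
      · exact odd_of_pow three_ne_zero h ho
    have h3 : 3 ≤ q := three_le_of_odd hqo hq.ne_one
    rcases h3.eq_or_lt with rfl | h3
    · rcases hK with ⟨h, e⟩ | ⟨h, e⟩
      · exact hD _ A.twE63 ⟨F, iF, iT, h, e⟩
      · exact hD _ A.twD43 ⟨F, iF, iT, h, e⟩
    · exact hD _ A.twO ⟨F, iF, iT, q, hq, hqo, h3, hK⟩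
  · exact h2 hK.1
  · exact h2 hK.1
  · exact hD _ A.ree hK.2

theorem Fams.altE {D : ((K : Type u) → [Group K] → Prop) → Prop} (A : Fams D) {K : Type u} [Group K]
    (hD : ∀ R : (K : Type u) → [Group K] → Prop, D R → R K → False) (hK : IsAlternating K) : False := by
  obtain ⟨n, hn, ⟨e⟩⟩ := hK
  by_cases h5 : n = 5
  · subst h5
    let _ : Fintype (GaloisField 2 2) := Fintype.ofFinite _
    have hc : Fintype.card (GaloisField 2 2) = 4 := by
      rw [← Nat.card_eq_fintype_card, GaloisField.card 2 2 two_ne_zero]; norm_num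
    obtain ⟨f⟩ := S0252.result (F := GaloisField 2 2) hc
    exact hD _ A.psl ⟨GaloisField 2 2, inferInstance, Fintype.ofFinite _, inferInstance, 2, le_rfl,
      fun _ => by rw [hc], ⟨e.trans f.symm⟩⟩
  by_cases h8 : n = 8
  · subst h8
    obtain ⟨f⟩ := S0256.result (F := ZMod 2) (ZMod.card 2)
    exact hD _ A.psl ⟨ZMod 2, inferInstance, inferInstance, inferInstance, 4, by norm_num, by norm_num,
      ⟨e.trans f.symm⟩⟩
  · exact hD _ (A.alt n (by omega) h8) ⟨e⟩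

/-- **The list of the families gives the handlers.** -/
theorem Fams.elim {D : ((K : Type u) → [Group K] → Prop) → Prop} (A : Fams D) {K : Type u} [Group K]
    (hD : ∀ R : (K : Type u) → [Group K] → Prop, D R → R K → False) : Elim K where
  alt := A.altE hD
  odd := A.odd hD
  psl := hD _ A.psl
  psp := hD _ A.psp
  psu := hD _ A.psu
  plus := hD _ A.plus
  minus := hD _ A.minus
  g2 := hD _ A.g2
  f4 := hD _ A.f4
  e6 := hD _ A.e6
  e7 := hD _ A.e7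
  e8 := hD _ A.e8
  twE6 := hD _ A.twE6
  twD4 := hD _ A.twD4
  sz := hD _ A.sz
  twF4 := hD _ A.twF4
  tits := hD _ A.tits
  m11 := hD _ A.m11
  m12 := hD _ A.m12
  m22 := hD _ A.m22
  m23 := hD _ A.m23
  m24 := hD _ A.m24
  j1 := hD _ A.j1
  j2 := hD _ A.j2
  j3 := hD _ A.j3
  j4 := hD _ A.j4
  co1 := hD _ A.co1
  co2 := hD _ A.co2
  co3 := hD _ A.co3
  mcl := hD _ A.mcl
  hs := hD _ A.hs
  suz := hD _ A.suz
  he := hD _ A.he
  ru := hD _ A.ru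
  on := hD _ A.on
  ly := hD _ A.ly
  fi22 := hD _ A.fi22
  fi23 := hD _ A.fi23
  fi24 := hD _ A.fi24
  hn := hD _ A.hn
  th := hD _ A.th
  b := hD _ A.b
  m := hD _ A.m

end Cfsg.Agent.H252.LT
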